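import Cfsg.Agent.Lib.ToddCox.Glue
set_option autoImplicit false
set_option maxRecDepth 100000
namespace Cfsg.Agent.Lib.ToddCox.J1C1
def E_0 : ℕ := 0x130c000030000030300001300001afc00004c00004ff00001a0000180c000064000064300001800000a0c000028000028300000a000015fc00002800002bf0000150000140c00005000005030000140000190400005000005010000190000130000004c00004c00000130000180800004c00004c2000018000018000000500000500000018000023fc00004c00004ff000023000024fc000060000063f000024000004080000100000102000004000016fc00002800002bf0000160000160400008c00008c10000160000020c000014000014300000200000504000014000014100000500001bfc000030000033f00001b000005fc000034000037f00000500000bfc000010000013f00000b00001dfc00005800005bf00001d000001040000040000041000001000007fc00000800000bf000007000006fc000014000017f00000600000dfc00001800001bf00000d00000bfc00003800003bf00000b000003fc000004000007f00000300000ffc00001c00001ff00000f000008fc00000c00000ff000008000010fc000024000027f00001000001a00000068000068000001a00000f0c000034000034300000f00000ffc000070000073f00000f000020fc000034000037f000020000010040000240000241000010000010000000400000400000010000010fc00004800004bf000010000021fc000024000027f000021000009000000240000240000009000011fc000024000027f000011000022fc00000c00000ff00002200000b0400003c00003c100000b00000f08000034000034200000f00000bfc00007800007bf00000b00000ffc00005c00005ff00000f00001ffc000034000037f00001f00001b04000090000090100001b00002400000050000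050000002400002304000074000074100002300001900000064000064000001900001708000034000034200001700001200000040000040000001200001008000024000024200001000000b0c00002c00002c300000b0000080400002000002010000080000050c00001c00001c30000050000070800001800001820000070000040c00001000001030000040000010800000400000420000010000000800000000000020000000000000400000000000010000000000000000000000000000000000000130800009000009020000130000130000008c00008c00000130000110c000088000088300001100001004000084000084100001000000f0c000080000080300000f00000f0800007c00007c200000f00000f04000078000078100000f00000e00000074000074000000e00000d0c000070000070300000d00000d0000006c00006c000000d00000c0c000068000068300000c00000c08000064000064200000c00000c04000060000060100000c00000b0400005c00005c100000b00000b00000058000058000000b00000a0c000054000054300000a00000a08000050000050200000a00000a0400004c00004c100000a0000090400004800004810000090000090000004400004400000090000080c00004000004030000080000080000003c00003c00000080000070400003800003810000070000050400003400003410000050000050000003000003000000050000040800002c00002c20000040000040000002800002800000040000030c00002400002430000030000030800002000002020000030000030000001c00001c00000030000020c00001800001830000020000020800001400001420000020000020400001000001010000020000010400000c00000c10000010000010000000800000800000010000000c0000040000043000000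
end Cfsg.Agent.Lib.ToddCox.J1C1
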