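import Cfsg.Agent.Lib.ToddCox.J1C1.Data
set_option autoImplicit false
set_option maxRecDepth 100000
namespace Cfsg.Agent.Lib.ToddCox.J1C1
theorem wordsGood : allBelow (wordsOK W (relR Rb inv) inv sp) nW 5 = true := by decide +kernel
theorem d0 : allBits (fun k => bif Nat.blt k 36 then chkDef Eo inv k else true) 13 0 = true := by decide +kernel
def L0 : List ℕ := [nat_lit 0xc800002c00005500000600000440000ee000010000006800015000002e00003300000a800020c00006c00001400001f800020400006e00001100001f000007000003e00005b00003b80001f800003c00005600000e80001bc00002000007b000011000003c0000f600005d00000900001040000f200002300000680001000000b600007700002d000017000004400007700002d000017000004400007600000980001d000004000001200002180001cc000022000011000021000008000002000000f00000e80001c00000b000007100000e000003800002000006d00001d000003c0000d600005f00000700000b40000d400003b00000680000f40000d200005e00000600000f000003800000e000002000000c00000e00001300001380001900000cc00003400000580000d0000030000008000001000013c000006000007000009800009c0000c800000a00002300000900000240000060000010000138000006000007000009800009c000012000044000012000004800000c000002000002800003400003600003900000400000c000002c000008000001000013800000600000900000b80000c400000e00002c00000a0000018000012000019000003000008800002000000400000180000240000aa00000c000008800016800000a00001e0000070000044000000000014000028000005400000600000e000002000013800000a00000f00000200000200000160000520000018000030000008000000000025800012400009a000001000001800002c00000400000600000100001380000000000490000008000138000006000007000000800000000009a0000010000007ffffffffffffffffff]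
theorem s0 : chkChunks Eo inv W isH 32 L0 36 = true := by decide +kernel
theorem c0 : Covered Eo inv W isH 36 68 := covered_of_chunks 32 L0 36 68 rfl s0
theorem s1 : chkStream Eo inv W isH 30 68 0x6000000c800002800003200001880002f800016600001c00005880002e400004c0000120000030000294000144000017000018800007400017400002800000a00000a000004e0000b9000013000007000016c00006000001800000cc00010c000032000018800018000016e00000100003080000c000002c0000a300000b80000bc0001660000b500005900002c40000360000ae000022000004800015800004600000700002b00000ca00001200005300002a400004a00000d000033000028400005e00000d00004e000005000001c00002a00004e800004c00002e00009a000031000003c00012c00005400000a000027c00003000000f00001a000027800002e00001700004a000024800003400009100000d000025c00000e00001800001c0000240000056000017000047000001000001e00000c000047800000c00002e00009200004200002340000a800001900003700002340000a600000c000038800023400003600000d000045000015c00011600000400000c000007000011600000d00000b800007c00011200001000000880001fc0000ee00007e00003e80001fc0000ee00007e00003e80001fc0000ee000016 = true := by decide +kernel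
theorem c1 : Covered Eo inv W isH 68 98 := covered_of_stream 30 68 _ s1
theorem l0 : chkPoints Eo cF (2 * nEv) N ys 11 0 0x5f800002400006200000600005b00000200000c200000a00005f0000028000164000007000017800001800016000000800005c800002000004e00000500005b80000280001620000090000610000018000166000009000012800001400016a000007000061800001c00006000000a000017000002400002e00000400005e800001400004c000008000012000001c0000260000030000528000008000012000002000051800001000002c000006000028800000c00015600000300000380000080000240000050000520000010000010000004000003000000c000006000001000000800000000009e00000100004c800000400000400000200000000000040000980000000000250000000000090000000 = true := by decide +kernel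
theorem k0 : LinksOK Eo cF (2 * nEv) N ys 0 11 := linksOK_of_points 11 0 _ l0
end Cfsg.Agent.Lib.ToddCox.J1C1
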